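import Mathlib.Algebra.Group.Subgroup.Lattice
import Mathlib.Tactic

/-!
# THEOREM FULL over `F_2`, combinatorial core (helper924 #18994, after helper55 #18400 (1)-(4))

`N` an elementary abelian 2-group (the dual of `M`), `P` an index set (the points `z`), `K z` the subgroup of `N`
of all elements vanishing on `z` (index `≤ 2`), `W z ≤ K z` the subgroup `C_M(Y_z)^⊥`, `Om` a set of elements of `N`.

* `Core.four` : helper55's (4);
* `Core.full` : `u, v ∈ Om`, `u ≠ v` implies `u * v ∈ Om`.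
-/

set_option autoImplicit false

namespace Cfsg.Agent.Omega.Full

variable {P N : Type*} [CommGroup N]

/-- **The combinatorial situation of THEOREM FULL over `F_2`** -/
structure Core (K W : P → Subgroup N) (Om : Set N) : Prop where
  two : ∀ (z : P) (x y : N), x ∉ K z → y ∉ K z → x * y ∈ K z
  le : ∀ z : P, W z ≤ K z
  sq : ∀ x : N, x * x = 1
  /-- `u + W_z ⊆ Om` -/
  ext : ∀ (z : P) (u w : N), u ∈ Om → u ∉ K z → w ∈ W z → u * w ∈ Om
  cov : ∀ u ∈ Om, ∃ z, u ∈ W z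
  /-- the points not perpendicular to `u` span -/
  nak : ∀ u ∈ Om, ∀ n : N, (∀ z, u ∉ K z → n ∈ K z) → n = 1
  pt : ∀ z, ∀ w ∈ W z, w ≠ 1 → w ∈ Om
  symm : ∀ z z', W z' ≤ K z → W z ≤ K z'
  big : ∀ z, ∃ x ∈ W z, ∃ y ∈ W z, x ≠ 1 ∧ y ≠ 1 ∧ x ≠ y
  /-- one orbit -/
  orb : ∀ u ∈ Om, ∀ v ∈ Om, (∀ x, v ∈ K x → ∀ b, v ∈ W b → W b ≤ K x) →
    ∀ x, u ∈ K x → ∀ b, u ∈ W b → W b ≤ K x

namespace Core

variable {K W : P → Subgroup N} {Om : Set N}

/-- `(v, t)` is a nonfull pair -/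
structure Non (Om : Set N) (v t : N) : Prop where
  l : v ∈ Om
  r : t ∈ Om
  ne : v * t ≠ 1
  no : v * t ∉ Om

theorem Non.swap {v t : N} (h : Non Om v t) : Non Om t v :=
  ⟨h.r, h.l, by rw [mul_comm]; exact h.ne, by rw [mul_comm]; exact h.no⟩

/-- a group is not the union of two proper subgroups -/
theorem exists_not {A B C : Subgroup N} (h1 : ¬ A ≤ B) (h2 : ¬ A ≤ C) : ∃ u ∈ A, u ∉ B ∧ u ∉ C := by
  obtain ⟨x, hx, hxB⟩ := SetLike.not_le_iff_exists.1 h1
  obtain ⟨y, hy, hyC⟩ := SetLike.not_le_iff_exists.1 h2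
  by_cases h3 : x ∈ C
  · by_cases h4 : y ∈ B
    · refine ⟨x * y, mul_mem hx hy, fun h5 => hxB ?_, fun h5 => hyC ?_⟩
      · have := mul_mem h5 (inv_mem h4)
        rwa [mul_inv_cancel_right] at this
      · have := mul_mem (inv_mem h3) h5
        rwa [inv_mul_cancel_left] at this
    · exact ⟨y, hy, h4, hyC⟩
  · exact ⟨x, hx, hxB, h3⟩

variable (D : Core K W Om)

include D

theorem not_mul {z : P} {x y : N} (hx : x ∉ K z) (hy : y ∈ K z) : x * y ∉ K z := fun h => hx (by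
  have := mul_mem h (inv_mem hy)
  rwa [mul_inv_cancel_right] at this)

theorem perp_of {v t : N} (h : Non Om v t) {a : P} (ha : t ∈ W a) : v ∈ K a := by
  by_contra hv
  exact h.no (D.ext a v t h.l hv ha)

/-- **(4)** -/
theorem four {v t : N} (h : Non Om v t) {x b : P} (hv : v ∈ K x) (ht : t ∉ K x) (hb : v ∈ W b) : W b ≤ K x := by
  by_contra hbx
  obtain ⟨a, ha⟩ := D.cov t h.r
  have hax : ¬ W a ≤ K x := fun h1 => ht (h1 ha)
  obtain ⟨u, hu, hua, hub⟩ := exists_not (fun h1 => hax (D.symm _ _ h1)) (fun h1 => hbx (D.symm _ _ h1))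
  have hu1 : u ≠ 1 := fun e => hua (e ▸ one_mem _)
  have h1 : u * v ∈ Om := D.ext b u v (D.pt x u hu hu1) hub hb
  have h2 : u * v ∉ K a := D.not_mul hua (D.perp_of h ha)
  have h3 : u * v * t ∈ Om := D.ext a _ t h1 h2 ha
  have h4 : u * v * t ∉ K x := by
    rw [mul_comm]
    exact D.not_mul ht (mul_mem (D.le x hu) hv)
  have h5 := D.ext x _ u h3 h4 hu
  refine h.no ?_
  have e : u * v * t * u = v * t := by
    rw [mul_comm, ← mul_assoc, ← mul_assoc, D.sq, one_mul]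
  rwa [e] at h5

/-- (4c) -/
theorem nonMul {v t w : N} (h : Non Om v t) {a : P} (hv : v ∉ K a) (ht : t ∈ K a) (hw : w ∈ W a) :
    Non Om (v * w) t := by
  have h1 : v * w ∈ Om := D.ext a v w h.l hv hw
  have e : v * w * t * w = v * t := by
    have : v * w * t * w = v * t * (w * w) := by
      rw [mul_right_comm v w t, mul_assoc]
    rw [this, D.sq, mul_one]
  refine ⟨h1, h.r, fun h2 => ?_, fun h2 => ?_⟩
  · have h3 : v * t = w := by rw [← e, h2, one_mul]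
    exact h.no (D.pt a _ (h3 ▸ hw) h.ne)
  · refine h.no ?_
    rw [← e]
    refine D.ext a _ w h2 ?_ hw
    rw [mul_assoc]
    exact D.not_mul hv (mul_mem (D.le a hw) ht)

/-- (A) -/
theorem exists_x [Nonempty P] {v : N} (hv : v ∈ Om) : ∃ x, v ∈ K x ∧ ∃ b, v ∈ W b ∧ ¬ W b ≤ K x := by
  by_contra hno
  push_neg at hno
  obtain ⟨b⟩ := ‹Nonempty P›
  obtain ⟨x, hx, y, hy, hx1, hy1, hxy⟩ := D.big b
  have hxy1 : x * y ≠ 1 := fun h => hxy (by
    have h2 : x = y⁻¹ := eq_inv_of_mul_eq_one_left h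
    rw [h2]
    exact inv_eq_of_mul_eq_one_left (D.sq y))
  have key : ∀ z, W b ≤ K z := by
    intro z
    have h3 : ∀ u ∈ W b, u ≠ 1 → u ∈ K z → W b ≤ K z := fun u hu hu1 huz =>
      D.orb u (D.pt b u hu hu1) v hv hno z huz b hu
    by_cases h1 : x ∈ K z
    · exact h3 x hx hx1 h1
    · by_cases h2 : y ∈ K z
      · exact h3 y hy hy1 h2
      · exact h3 _ (mul_mem hx hy) hxy1 (D.two z x y h1 h2)
  exact hx1 (D.nak x (D.pt b x hx hx1) x fun z _ => key z hx)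

/-- **THEOREM FULL, `F_2`, core**: there is no nonfull pair -/
theorem no_non [Nonempty P] {v t : N} (h : Non Om v t) : False := by
  obtain ⟨x, hvx, b₀, hb₀, hb₀x⟩ := D.exists_x h.l
  -- (B)
  have B1 : ∀ s, Non Om v s → s ∈ K x := fun s hs => by
    by_contra hsx
    exact hb₀x (D.four hs hvx hsx hb₀)
  have htx : t ∈ K x := B1 t h
  have B2 : ∀ a, v ∈ K a → t ∉ K a → W a ≤ K x := fun a hva hta w hw => by
    have h1 := (D.nonMul h.swap hta hva hw).swap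
    have h2 := mul_mem (inv_mem htx) (B1 _ h1)
    rwa [inv_mul_cancel_left] at h2
  -- (C)
  obtain ⟨u₁, hu₁, hu₁1⟩ : ∃ u ∈ W x, u ≠ 1 := by
    obtain ⟨u, hu, _, _, hu1, _⟩ := D.big x
    exact ⟨u, hu, hu1⟩
  obtain ⟨a, hta, hax⟩ : ∃ a, t ∉ K a ∧ ¬ W x ≤ K a := by
    by_contra hno
    push_neg at hno
    exact hu₁1 (D.nak t h.r u₁ fun z hz => hno z hz hu₁)
  have hax' : ¬ W a ≤ K x := fun h1 => hax (D.symm _ _ h1)
  have hva : v ∉ K a := fun h1 => hax' (B2 a h1 hta)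
  -- (D)
  have hoa : v * t ∈ K a := D.two a v t hva hta
  have hone : ∀ w ∈ W a, v * t * w ≠ 1 := fun w hw h1 => by
    have h2 : v * t = w := by
      have h3 : v * t * w * w = w := by rw [h1, one_mul]
      rwa [mul_assoc, D.sq, mul_one] at h3
    exact h.no (D.pt a _ (h2 ▸ hw) h.ne)
  have hL : ∀ w ∈ W a, v * t * w ∉ Om → w ∈ K x := fun w hw h1 => by
    have h2 : t * w ∈ Om := D.ext a t w h.r hta hw
    have h3 : Non Om v (t * w) := ⟨h.l, h2, by rw [← mul_assoc]; exact hone w hw, by rwa [← mul_assoc]⟩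
    have h4 := mul_mem (inv_mem htx) (B1 _ h3)
    rwa [inv_mul_cancel_left] at h4
  -- (E')
  have hE : ∀ z, v * t ∉ K z → ¬ W a ≤ K z → ∀ w ∈ W a, w ∈ K z → w ∈ K x := by
    intro z hoz haz w hw hwz
    by_contra hwx
    have hs : v * t * w ∈ Om := by
      by_contra h1
      exact hwx (hL w hw h1)
    have hw1 : w ≠ 1 := fun e => hwx (e ▸ one_mem _)
    have e : w * (v * t * w) = v * t := by
      rw [mul_comm, mul_assoc, D.sq, mul_one]
    have h2 : Non Om w (v * t * w) := ⟨D.pt a w hw hw1, hs, by rw [e]; exact h.ne, by rw [e]; exact h.no⟩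
    exact haz (D.four h2 hwz (D.not_mul hoz hwz) hw)
  -- (G)
  obtain ⟨u, hu, hu1, hux⟩ : ∃ u ∈ W a, u ≠ 1 ∧ u ∈ K x := by
    obtain ⟨p, hp, q, hq, hp1, hq1, hpq⟩ := D.big a
    by_cases h1 : p ∈ K x
    · exact ⟨p, hp, hp1, h1⟩
    · by_cases h2 : q ∈ K x
      · exact ⟨q, hq, hq1, h2⟩
      · refine ⟨p * q, mul_mem hp hq, fun h3 => hpq ?_, D.two x p q h1 h2⟩
        rw [eq_inv_of_mul_eq_one_left h3]
        exact inv_eq_of_mul_eq_one_left (D.sq q)
  refine h.ne (D.nak u (D.pt a u hu hu1) _ fun z huz => ?_)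
  by_contra hoz
  have haz : ¬ W a ≤ K z := fun h1 => huz (h1 hu)
  -- `W_a ∩ z^⊥ ≤ W_a ∩ x^⊥`, both of index `2`
  obtain ⟨w, hw, hwx⟩ := SetLike.not_le_iff_exists.1 hax'
  have hwz : w ∉ K z := fun h1 => hwx (hE z hoz haz w hw h1)
  have h5 := hE z hoz haz (w * u) (mul_mem hw hu) (D.two z w u hwz huz)
  exact D.not_mul hwx hux h5

/-- **THEOREM FULL, `F_2`**: `Om ∪ {1}` is closed -/
theorem full [Nonempty P] {v t : N} (hv : v ∈ Om) (ht : t ∈ Om) (hne : v * t ≠ 1) : v * t ∈ Om := by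
  by_contra h
  exact D.no_non ⟨hv, ht, hne, h⟩

end Core

end Cfsg.Agent.Omega.Full
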