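import Mathlib.GroupTheory.FiniteAbelian.Duality
import Mathlib.GroupTheory.GroupAction.Quotient
import Mathlib.GroupTheory.PGroup
import Mathlib.Tactic

/-!
# The dual `M →* ℤˣ` of an elementary abelian 2-group

* `ann A`, `card_ann`, `exists_of_notMem`;
* `card_fixed` : `|C_M(g)| = |C_{M*}(g)|`.
-/

set_option autoImplicit false

namespace Cfsg.Agent.Omega.Full

variable {M : Type*} [Group M]

theorem hasEnough (sq : ∀ m : M, m * m = 1) : HasEnoughRootsOfUnity ℤ (Monoid.exponent M) := by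
  have h2 : Monoid.exponent M ∣ 2 := Monoid.exponent_dvd_of_forall_pow_eq_one (fun m => by rw [pow_two, sq])
  haveI : HasEnoughRootsOfUnity ℤ 2 :=
    ⟨⟨-1, IsPrimitiveRoot.neg_one 0 (by norm_num)⟩, rootsOfUnity.isCyclic _ _⟩
  exact HasEnoughRootsOfUnity.of_dvd ℤ h2

theorem comm_of_sq (sq : ∀ m : M, m * m = 1) (a b : M) : a * b = b * a := by
  have h1 : ∀ m : M, m⁻¹ = m := fun m => inv_eq_of_mul_eq_one_left (sq m)
  have h2 := h1 (a * b)
  rw [mul_inv_rev, h1, h1] at h2
  exact h2.symm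

/-- the annihilator -/
def ann (A : Subgroup M) : Subgroup (M →* ℤˣ) where
  carrier := {φ | ∀ a ∈ A, φ a = 1}
  one_mem' := fun _ _ => rfl
  mul_mem' := fun {φ ψ} hφ hψ a ha => by rw [MonoidHom.mul_apply, hφ a ha, hψ a ha, mul_one]
  inv_mem' := fun {φ} hφ a ha => by rw [MonoidHom.inv_apply, hφ a ha, inv_one]

theorem mem_ann {A : Subgroup M} {φ : M →* ℤˣ} : φ ∈ ann A ↔ ∀ a ∈ A, φ a = 1 := Iff.rfl

theorem exists_of_notMem [Finite M] (sq : ∀ m : M, m * m = 1) {A : Subgroup M} {x : M} (hx : x ∉ A) :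
    ∃ φ ∈ ann A, φ x ≠ 1 := by
  letI : CommGroup M := { ‹Group M› with mul_comm := comm_of_sq sq }
  haveI : HasEnoughRootsOfUnity ℤ (Monoid.exponent M) := hasEnough sq
  by_contra hno
  push Not at hno
  exact hx ((CommGroup.forall_monoidHom_apply_eq_one_iff ℤ A x).1 fun φ hφ => hno φ hφ)

theorem card_ann [Finite M] (sq : ∀ m : M, m * m = 1) (A : Subgroup M) : Nat.card (ann A) = A.index := by
  letI : CommGroup M := { ‹Group M› with mul_comm := comm_of_sq sq }
  haveI : HasEnoughRootsOfUnity ℤ (Monoid.exponent M) := hasEnough sq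
  have h := CommGroup.card_domRestrictHom_ker ℤ A
  have e : Nat.card (M ⧸ A) = A.index := rfl
  rw [← e, ← h]
  refine Nat.card_congr (Equiv.subtypeEquivRight fun φ => ?_)
  change φ ∈ ann A ↔ φ ∈ (MonoidHom.domRestrictHom A ℤˣ).ker
  rw [MonoidHom.mem_ker, mem_ann]
  constructor
  · intro h
    ext ⟨a, ha⟩
    exact congrArg Units.val (h a ha)
  · intro h a ha
    exact DFunLike.congr_fun h (⟨a, ha⟩ : A)

theorem finite_dual [Finite M] : Finite (M →* ℤˣ) :=
  Finite.of_injective (fun φ : M →* ℤˣ => (φ : M → ℤˣ)) DFunLike.coe_injective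

theorem dual_sq (φ : M →* ℤˣ) : φ * φ = 1 := by
  ext m
  rw [MonoidHom.mul_apply, Int.units_mul_self, MonoidHom.one_apply]

variable {H : Type*} [Group H] [MulDistribMulAction H M]

/-- the action of `H` on the dual -/
def dl (h : H) (φ : M →* ℤˣ) : M →* ℤˣ := φ.comp (MulDistribMulAction.toMonoidHom M h⁻¹)

theorem dl_apply (h : H) (φ : M →* ℤˣ) (m : M) : dl h φ m = φ (h⁻¹ • m) := rfl

theorem dl_one (φ : M →* ℤˣ) : dl (1 : H) φ = φ := by
  ext m
  rw [dl_apply, inv_one, one_smul]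

theorem dl_dl (g h : H) (φ : M →* ℤˣ) : dl g (dl h φ) = dl (g * h) φ := by
  ext m
  rw [dl_apply, dl_apply, dl_apply, mul_inv_rev, mul_smul]

theorem dl_mul (h : H) (φ ψ : M →* ℤˣ) : dl h (φ * ψ) = dl h φ * dl h ψ := by
  ext m
  rfl

theorem dl_map_one (h : H) : dl h (1 : M →* ℤˣ) = 1 := by
  ext m
  rfl

/-- the dual as an `H`-group -/
@[reducible] def dualAction (H M : Type*) [Group H] [Group M] [MulDistribMulAction H M] :
    MulDistribMulAction H (M →* ℤˣ) where
  smul := dl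
  one_smul := dl_one
  mul_smul := fun g h φ => (dl_dl g h φ).symm
  smul_mul := dl_mul
  smul_one := dl_map_one

/-- `|C_M(g)| = |C_{M*}(g)|` -/
theorem card_fixed [Finite M] (sq : ∀ m : M, m * m = 1) (g : H) :
    Nat.card {φ : M →* ℤˣ // dl g φ = φ} = Nat.card {m : M // g • m = m} := by
  letI : CommGroup M := { ‹Group M› with mul_comm := comm_of_sq sq }
  let δ : M →* M :=
    { toFun := fun m => (g • m) * m⁻¹
      map_one' := by rw [smul_one, inv_one, mul_one]
      map_mul' := fun a b => by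
        rw [smul_mul', mul_inv]
        exact mul_mul_mul_comm _ _ _ _ }
  have hδ : ∀ m, δ m = (g • m) * m⁻¹ := fun _ => rfl
  have h1 : Nat.card {φ : M →* ℤˣ // dl g φ = φ} = Nat.card (ann δ.range) := by
    refine Nat.card_congr (Equiv.subtypeEquivRight fun φ => ?_)
    change dl g φ = φ ↔ φ ∈ ann δ.range
    constructor
    · rintro h _ ⟨m, rfl⟩
      rw [hδ, map_mul, map_inv]
      have h3 := DFunLike.congr_fun h (g • m)
      rw [dl_apply, inv_smul_smul] at h3
      rw [← h3, mul_inv_cancel]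
    · intro h
      ext m
      have h3 := h _ ⟨g⁻¹ • m, rfl⟩
      rw [hδ, map_mul, map_inv, smul_inv_smul, mul_inv_eq_one] at h3
      rw [dl_apply, h3]
  have h2 : Nat.card {m : M // g • m = m} = Nat.card δ.ker := by
    refine Nat.card_congr (Equiv.subtypeEquivRight fun m => ?_)
    rw [MonoidHom.mem_ker, hδ, mul_inv_eq_one]
  rw [h1, h2, card_ann sq]
  exact Subgroup.index_range

end Cfsg.Agent.Omega.Full
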