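import Cfsg.Agent.Omega.Full.Core
import Cfsg.Agent.Omega.Full.Dual
import Cfsg.Agent.ClassTwoFusion.Quad

/-!
# THEOREM FULL over `F_2`, K-free (helper924 #18994, after helper55 #18400)

`H` a finite group on the elementary abelian 2-group `M`, `T` a 2-subgroup, `C_M(T) = ⟨z⟩`, `C_{M*}(T) = ⟨u⟩`,
`Y` normalised by `C_H(z)`, `Y ≤ C_H(z)`, `|Y| = |M : C_M(Y)| ≥ 4`, no element `≠ 1` of `Y` fixes a conjugate of `u`
which does not vanish at `z`; `g ∈ H` with `u (g z) ≠ 1 ≠ u (g⁻¹ z)`.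

* `In.all` : `H` is transitive on the nontrivial functionals;
* **`In.trans`** : `H` is transitive on `M#`;
* `In.u_z`, `In.exact_u` : `u` vanishes on `C_M(Y)`.
-/

set_option autoImplicit false
set_option linter.unusedSectionVars false
set_option linter.style.haveILetI false

namespace Cfsg.Agent.Omega.Full

open Subgroup Cfsg.Agent.ClassTwoFusion.Quad

variable {H M : Type*} [Group H] [Group M] [MulDistribMulAction H M]

/-- **The input of THEOREM FULL** -/
structure In (T Y : Subgroup H) (z : M) (u : M →* ℤˣ) : Prop where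
  sq : ∀ m : M, m * m = 1
  tT : IsPGroup 2 T
  zT : ∀ t ∈ T, t • z = z
  uT : ∀ t ∈ T, ∀ m, u (t • m) = u m
  cM : ∀ m : M, (∀ t ∈ T, t • m = m) → m = 1 ∨ m = z
  cU : ∀ φ : M →* ℤˣ, (∀ t ∈ T, ∀ m, φ (t • m) = φ m) → φ = 1 ∨ φ = u
  /-- an opposite pair -/
  opp : ∃ g : H, u (g • z) ≠ 1 ∧ u (g⁻¹ • z) ≠ 1
  Yz : ∀ y ∈ Y, y • z = z
  norm : ∀ h : H, h • z = z → ∀ y ∈ Y, h * y * h⁻¹ ∈ Y
  exact : (cv M (Y : Set H)).index = Nat.card Y
  two_lt : 2 < Nat.card Y
  /-- (O2) -/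
  semi : ∀ y ∈ Y, ∀ h : H, u (h • z) ≠ 1 → (∀ m, u (h • y • m) = u (h • m)) → y = 1

/-- a 2-group fixes a nontrivial element of each nontrivial invariant subgroup -/
theorem exists_fix {N : Type*} [Group N] [Finite N] [MulDistribMulAction H N] {T : Subgroup H} (hT : IsPGroup 2 T)
    (sq : ∀ n : N, n * n = 1) (A : Subgroup N) (hA : ∀ t ∈ T, ∀ n ∈ A, t • n ∈ A) (hne : A ≠ ⊥) :
    ∃ b ∈ A, b ≠ 1 ∧ ∀ t ∈ T, t • b = b := by
  letI : MulAction T A :=
    { smul := fun t n => ⟨(t : H) • (n : N), hA t t.2 n n.2⟩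
      one_smul := fun n => Subtype.ext (one_smul H (n : N))
      mul_smul := fun s t n => Subtype.ext (mul_smul (s : H) (t : H) (n : N)) }
  have hs : ∀ (t : T) (n : A), ((t • n : A) : N) = (t : H) • (n : N) := fun _ _ => rfl
  obtain ⟨n, hn, hn1⟩ : ∃ n ∈ A, n ≠ 1 := by
    by_contra hno
    push Not at hno
    exact hne ((Subgroup.eq_bot_iff_forall A).2 hno)
  have h2 : 2 ∣ Nat.card A := by
    have h3 : orderOf (⟨n, hn⟩ : A) = 2 := by
      refine orderOf_eq_prime ?_ fun h4 => hn1 (congrArg Subtype.val h4)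
      rw [pow_two]
      exact Subtype.ext (sq n)
    rw [← h3]
    exact orderOf_dvd_natCard _
  have h1 : (1 : A) ∈ MulAction.fixedPoints T A := fun t => Subtype.ext (by
    rw [hs]
    exact smul_one _)
  obtain ⟨b, hb, hb1⟩ := hT.exists_fixed_point_of_prime_dvd_card_of_fixed_point A h2 h1
  refine ⟨b, b.2, fun h => hb1 (Subtype.ext h.symm), fun t ht => ?_⟩
  have h3 := congrArg Subtype.val (hb ⟨t, ht⟩)
  rw [hs] at h3
  exact h3

/-- the functionals vanishing on `h z` -/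
def KK (H : Type*) [Group H] [MulDistribMulAction H M] (z : M) (h : H) : Subgroup (M →* ℤˣ) where
  carrier := {φ | φ (h • z) = 1}
  one_mem' := rfl
  mul_mem' := fun {φ ψ} (hφ : φ (h • z) = 1) (hψ : ψ (h • z) = 1) => by
    change (φ * ψ) (h • z) = 1
    rw [MonoidHom.mul_apply, hφ, hψ, mul_one]
  inv_mem' := fun {φ} (hφ : φ (h • z) = 1) => by
    change φ⁻¹ (h • z) = 1
    rw [MonoidHom.inv_apply, hφ, inv_one]

theorem mem_KK {z : M} {h : H} {φ : M →* ℤˣ} : φ ∈ KK H z h ↔ φ (h • z) = 1 := Iff.rfl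

/-- `C_M(Y)^⊥`, translated by `h` -/
def WW (M : Type*) [Group M] [MulDistribMulAction H M] (Y : Subgroup H) (h : H) : Subgroup (M →* ℤˣ) where
  carrier := {φ | dl h⁻¹ φ ∈ ann (cv M (Y : Set H))}
  one_mem' := by
    change dl h⁻¹ (1 : M →* ℤˣ) ∈ ann (cv M (Y : Set H))
    rw [dl_map_one]
    exact one_mem _
  mul_mem' := fun {φ ψ} (hφ : dl h⁻¹ φ ∈ _) (hψ : dl h⁻¹ ψ ∈ _) => by
    change dl h⁻¹ (φ * ψ) ∈ ann (cv M (Y : Set H))
    rw [dl_mul]
    exact mul_mem hφ hψ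
  inv_mem' := fun {φ} (hφ : dl h⁻¹ φ ∈ _) => by
    change dl h⁻¹ φ⁻¹ ∈ ann (cv M (Y : Set H))
    exact inv_mem hφ

theorem mem_WW {Y : Subgroup H} {h : H} {φ : M →* ℤˣ} :
    φ ∈ WW M Y h ↔ dl h⁻¹ φ ∈ ann (cv M (Y : Set H)) := Iff.rfl

theorem mem_WW_one {Y : Subgroup H} {φ : M →* ℤˣ} :
    φ ∈ WW M Y 1 ↔ φ ∈ ann (cv M (Y : Set H)) := by
  rw [mem_WW, inv_one, dl_one]

/-- the orbit of `u` -/
def OM (H : Type*) [Group H] [MulDistribMulAction H M] (u : M →* ℤˣ) : Set (M →* ℤˣ) := {φ | ∃ h : H, φ = dl h u}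

theorem dl_mem_OM {u φ : M →* ℤˣ} (hφ : φ ∈ OM H u) (g : H) : dl g φ ∈ OM H u := by
  obtain ⟨h, rfl⟩ := hφ
  exact ⟨g * h, dl_dl g h u⟩

theorem dl_mem_KK {z : M} {g h : H} {φ : M →* ℤˣ} : dl g φ ∈ KK H z h ↔ φ ∈ KK H z (g⁻¹ * h) := by
  rw [mem_KK, mem_KK, dl_apply, mul_smul]

theorem dl_mem_WW {Y : Subgroup H} {g h : H} {φ : M →* ℤˣ} : dl g φ ∈ WW M Y h ↔ φ ∈ WW M Y (g⁻¹ * h) := by
  rw [mem_WW, mem_WW, dl_dl, mul_inv_rev, inv_inv]

theorem le_iff {z : M} {Y : Subgroup H} (g b x : H) :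
    WW M Y b ≤ KK H z x ↔ WW M Y (g * b) ≤ KK H z (g * x) := by
  constructor
  · intro h φ hφ
    have h1 : dl g⁻¹ φ ∈ WW M Y b := by
      rw [dl_mem_WW, inv_inv]
      exact hφ
    have h2 := h h1
    rw [dl_mem_KK, inv_inv] at h2
    exact h2
  · intro h φ hφ
    have h1 : dl g φ ∈ WW M Y (g * b) := by
      rw [dl_mem_WW, inv_mul_cancel_left]
      exact hφ
    have h2 := h h1
    rw [dl_mem_KK, inv_mul_cancel_left] at h2
    exact h2

theorem dl_inj {g : H} {φ ψ : M →* ℤˣ} (h : dl g φ = dl g ψ) : φ = ψ := by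
  have h1 := congrArg (dl g⁻¹) h
  rwa [dl_dl, dl_dl, inv_mul_cancel, dl_one, dl_one] at h1

namespace In

variable [Finite M] {T Y : Subgroup H} {z : M} {u : M →* ℤˣ} (D : In T Y z u)

include D

theorem card_W : Nat.card (ann (cv M (Y : Set H))) = Nat.card Y := by
  rw [card_ann D.sq, D.exact]

theorem mem_of_inv (A : Subgroup (M →* ℤˣ)) (hA : ∀ t ∈ T, ∀ φ ∈ A, dl t φ ∈ A) {φ : M →* ℤˣ} (hφ : φ ∈ A)
    (h1 : φ ≠ 1) : u ∈ A := by
  letI := dualAction H M
  haveI : Finite (M →* ℤˣ) := finite_dual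
  obtain ⟨b, hb, hb1, hbT⟩ := exists_fix (H := H) (N := M →* ℤˣ) D.tT dual_sq A hA
    (fun h => h1 (by rw [h, mem_bot] at hφ; exact hφ))
  have h2 : ∀ t ∈ T, ∀ m, b (t • m) = b m := fun t ht m => by
    have h3 := DFunLike.congr_fun (hbT t ht) (t • m)
    change b (t⁻¹ • t • m) = b (t • m) at h3
    rw [inv_smul_smul] at h3
    exact h3.symm
  rcases D.cU b h2 with h | h
  · exact (hb1 h).elim
  · exact h ▸ hb

theorem u_mem : u ∈ ann (cv M (Y : Set H)) := by
  haveI : Finite (M →* ℤˣ) := finite_dual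
  have h1 : ∃ φ ∈ ann (cv M (Y : Set H)), φ ≠ 1 := by
    by_contra hno
    push Not at hno
    have h2 : ann (cv M (Y : Set H)) = ⊥ := (Subgroup.eq_bot_iff_forall _).2 hno
    have h3 := D.card_W
    have h4 := D.two_lt
    rw [h2, card_bot] at h3
    omega
  obtain ⟨φ, hφ, hφ1⟩ := h1
  refine D.mem_of_inv _ (fun t ht ψ hψ => ?_) hφ hφ1
  intro m hm
  rw [dl_apply]
  refine hψ _ fun y hy => ?_
  have h5 := hm _ (D.norm t (D.zT t ht) y hy)
  rw [smul_eq_iff_eq_inv_smul] at h5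
  have h6 : (t * y * t⁻¹)⁻¹ • m = m := h5.symm
  have h7 : (t * y * t⁻¹) • m = m := by
    rw [← h6, smul_inv_smul, h6]
  rw [mul_smul, mul_smul] at h7
  exact (smul_eq_iff_eq_inv_smul _).1 h7

theorem u_z : u z = 1 := D.u_mem z fun y hy => D.Yz y hy

/-- the free action -/
theorem ext_one {φ w : M →* ℤˣ} (hφ : φ ∈ OM H u) (hz : φ z ≠ 1) (hw : w ∈ ann (cv M (Y : Set H))) :
    ∃ y ∈ Y, φ * w = dl y φ := by
  haveI : Finite (M →* ℤˣ) := finite_dual
  obtain ⟨h, rfl⟩ := hφ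
  let f : Y → ann (cv M (Y : Set H)) := fun y => ⟨dl (y : H) (dl h u) * dl h u, by
    intro m hm
    rw [MonoidHom.mul_apply, dl_apply]
    have h1 : (y : H)⁻¹ • m = m := hm _ (inv_mem y.2)
    rw [h1, Int.units_mul_self]⟩
  have hf : Function.Injective f := by
    intro y y' he
    have h1 := congrArg Subtype.val he
    change dl (y : H) (dl h u) * dl h u = dl (y' : H) (dl h u) * dl h u at h1
    have h2 := mul_right_cancel h1
    have h3 : dl ((y' : H)⁻¹ * y) (dl h u) = dl h u := by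
      rw [← dl_dl, h2, dl_dl, inv_mul_cancel, dl_one]
    have h4 : (y' : H)⁻¹ * y = 1 := by
      refine D.semi _ (mul_mem (inv_mem y'.2) y.2) h⁻¹ hz fun m => ?_
      have h5 := DFunLike.congr_fun h3 (((y' : H)⁻¹ * y) • m)
      rw [dl_apply, inv_smul_smul] at h5
      rw [dl_apply, dl_apply] at h5
      exact h5.symm
    exact Subtype.ext (inv_mul_eq_one.1 h4).symm
  have hb : Function.Bijective f := hf.bijective_of_nat_card_le (by rw [D.card_W])
  obtain ⟨y, hy⟩ := hb.2 ⟨w, hw⟩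
  have h1 : dl (y : H) (dl h u) * dl h u = w := congrArg Subtype.val hy
  refine ⟨y, y.2, ?_⟩
  rw [← h1, mul_left_comm, dual_sq, mul_one]

theorem ext_mul {φ w : M →* ℤˣ} {h : H} (hφ : φ ∈ OM H u) (hz : φ ∉ KK H z h) (hw : w ∈ WW M Y h) :
    ∃ y ∈ Y, φ * w = dl (h * y * h⁻¹) φ := by
  obtain ⟨y, hy, he⟩ := D.ext_one (φ := dl h⁻¹ φ) (dl_mem_OM hφ _)
    (fun h1 => hz (by rw [dl_apply, inv_inv] at h1; exact h1)) hw
  refine ⟨y, hy, ?_⟩
  have h1 := congrArg (dl h) he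
  rw [dl_mul, dl_dl, dl_dl, dl_dl, dl_dl, mul_inv_cancel, dl_one, dl_one] at h1
  rw [h1, mul_assoc]

theorem ext_mem {φ w : M →* ℤˣ} {h : H} (hφ : φ ∈ OM H u) (hz : φ ∉ KK H z h) (hw : w ∈ WW M Y h) :
    φ * w ∈ OM H u := by
  obtain ⟨y, -, he⟩ := D.ext_mul hφ hz hw
  rw [he]
  exact dl_mem_OM hφ _

theorem nak_u {n : M →* ℤˣ} (hn : ∀ h : H, u (h • z) ≠ 1 → n (h • z) = 1) : n = 1 := by
  by_contra hn1
  let A : Subgroup (M →* ℤˣ) :=
    { carrier := {n | ∀ h : H, u (h • z) ≠ 1 → n (h • z) = 1}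
      one_mem' := fun _ _ => rfl
      mul_mem' := fun {a b} ha hb h hh => by rw [MonoidHom.mul_apply, ha h hh, hb h hh, mul_one]
      inv_mem' := fun {a} ha h hh => by rw [MonoidHom.inv_apply, ha h hh, inv_one] }
  have hA : ∀ t ∈ T, ∀ φ ∈ A, dl t φ ∈ A := by
    intro t ht φ hφ h hh
    rw [dl_apply, ← mul_smul]
    refine hφ _ ?_
    rwa [mul_smul, D.uT t⁻¹ (inv_mem ht)]
  obtain ⟨g, hg, -⟩ := D.opp
  exact hg (D.mem_of_inv A hA (φ := n) hn hn1 g hg)

theorem exists_opp {n : M →* ℤˣ} (hn1 : n ≠ 1) : ∃ k : H, u (k⁻¹ • z) ≠ 1 ∧ n (k • z) ≠ 1 := by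
  by_contra hno
  push Not at hno
  let A : Subgroup (M →* ℤˣ) :=
    { carrier := {n | ∀ h : H, u (h⁻¹ • z) ≠ 1 → n (h • z) = 1}
      one_mem' := fun _ _ => rfl
      mul_mem' := fun {a b} ha hb h hh => by rw [MonoidHom.mul_apply, ha h hh, hb h hh, mul_one]
      inv_mem' := fun {a} ha h hh => by rw [MonoidHom.inv_apply, ha h hh, inv_one] }
  have hA : ∀ t ∈ T, ∀ φ ∈ A, dl t φ ∈ A := by
    intro t ht φ hφ h hh
    rw [dl_apply, ← mul_smul]
    refine hφ _ ?_
    rw [mul_inv_rev, inv_inv, mul_smul, D.zT t ht]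
    exact hh
  obtain ⟨g, hg, hg'⟩ := D.opp
  exact hg (D.mem_of_inv A hA (φ := n) hno hn1 g hg')

/-- (2) : `W# ⊆ Om` -/
theorem pt_one {w : M →* ℤˣ} (hw : w ∈ ann (cv M (Y : Set H))) (hw1 : w ≠ 1) : w ∈ OM H u := by
  obtain ⟨k, hk, hwk⟩ := D.exists_opp hw1
  have h1 : dl k u ∈ OM H u := ⟨k, rfl⟩
  have h2 : dl k u ∉ KK H z 1 := by
    rw [mem_KK, one_smul, dl_apply]
    exact hk
  have h3 : dl k u * w ∈ OM H u := D.ext_mem h1 h2 (mem_WW_one.2 hw)
  have h4 : dl k u * w ∉ KK H z k := by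
    rw [mem_KK, MonoidHom.mul_apply, dl_apply, inv_smul_smul, D.u_z, one_mul]
    exact hwk
  have h5 : dl k u ∈ WW M Y k := by
    rw [mem_WW, dl_dl, inv_mul_cancel, dl_one]
    exact D.u_mem
  have h6 := D.ext_mem h3 h4 h5
  rwa [mul_right_comm, dual_sq, one_mul] at h6

/-- (3) -/
theorem symm_one {k : H} (h : WW M Y k ≤ KK H z 1) : WW M Y 1 ≤ KK H z k := by
  haveI : Finite (M →* ℤˣ) := finite_dual
  -- `k Y k⁻¹` fixes `z`
  have h1 : ∀ y ∈ Y, (k * y * k⁻¹) • z = z := by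
    have h2 : k⁻¹ • z ∈ cv M (Y : Set H) := by
      by_contra h3
      obtain ⟨φ, hφ, hφ1⟩ := exists_of_notMem D.sq h3
      have h4 : dl k φ ∈ WW M Y k := by
        rw [mem_WW, dl_dl, inv_mul_cancel, dl_one]
        exact hφ
      have h5 := h h4
      rw [mem_KK, one_smul, dl_apply] at h5
      exact hφ1 h5
    intro y hy
    rw [mul_smul, mul_smul, h2 y hy, smul_inv_smul]
  intro w hw
  by_contra hwk
  have hw1 : w ≠ 1 := fun e => hwk (e ▸ one_mem _)
  have hwO : w ∈ OM H u := D.pt_one (mem_WW_one.1 hw) hw1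
  have h2 : WW M Y k ≤ WW M Y 1 := by
    intro φ hφ
    obtain ⟨y, hy, he⟩ := D.ext_mul hwO hwk hφ
    have h3 : dl (k * y * k⁻¹) w ∈ WW M Y 1 := by
      rw [mem_WW_one]
      intro m hm
      rw [dl_apply]
      refine mem_WW_one.1 hw _ fun y' hy' => ?_
      set g := k * y * k⁻¹ with hg
      have h5 := hm _ (D.norm g (h1 y hy) y' hy')
      rw [mul_smul, mul_smul] at h5
      exact (smul_eq_iff_eq_inv_smul _).1 h5
    rw [← he] at h3
    have h4 := mul_mem (inv_mem hw) h3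
    rwa [inv_mul_cancel_left] at h4
  have h3 : Nat.card (WW M Y 1) ≤ Nat.card (WW M Y k) := by
    refine Nat.card_le_card_of_injective
      (fun φ : WW M Y 1 => (⟨dl k φ, by
        rw [dl_mem_WW, inv_mul_cancel]
        exact φ.2⟩ : WW M Y k)) ?_
    intro a b hab
    exact Subtype.ext (dl_inj (congrArg Subtype.val hab))
  have h4 : WW M Y k = WW M Y 1 := Subgroup.eq_of_le_of_card_ge h2 h3
  have h5 : w ∈ WW M Y k := h4 ▸ hw
  rw [mem_WW] at h5
  apply hwk
  rw [mem_KK]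
  have h6 := h5 z fun y hy => D.Yz y hy
  rwa [dl_apply, inv_inv] at h6

theorem core : Core (KK H z) (WW M Y) (OM H u) where
  two := fun h φ ψ h1 h2 => by
    rw [mem_KK] at h1 h2 ⊢
    rw [MonoidHom.mul_apply, (Int.units_eq_one_or _).resolve_left h1, (Int.units_eq_one_or _).resolve_left h2]
    rfl
  le := fun h φ hφ => by
    rw [mem_WW] at hφ
    have h6 := hφ z fun y hy => D.Yz y hy
    rwa [dl_apply, inv_inv] at h6
  sq := dual_sq
  ext := fun h φ w h1 h2 h3 => D.ext_mem h1 h2 h3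
  cov := by
    rintro _ ⟨h, rfl⟩
    refine ⟨h, ?_⟩
    rw [mem_WW, dl_dl, inv_mul_cancel, dl_one]
    exact D.u_mem
  nak := by
    rintro _ ⟨k, rfl⟩ n hn
    have h1 : dl k⁻¹ n = 1 := by
      refine D.nak_u fun h hh => ?_
      have h2 := hn (k * h) fun h3 => hh (by
        rw [dl_mem_KK, inv_mul_cancel_left, mem_KK] at h3
        exact h3)
      rw [dl_apply, inv_inv, ← mul_smul]
      exact h2
    have h2 := congrArg (dl k) h1
    rwa [dl_dl, mul_inv_cancel, dl_one, dl_map_one] at h2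
  pt := fun h w hw hw1 => by
    have h1 : dl h⁻¹ w ∈ OM H u := D.pt_one hw fun h2 => hw1 (by
      have h3 := congrArg (dl h) h2
      rwa [dl_dl, mul_inv_cancel, dl_one, dl_map_one] at h3)
    have h2 := dl_mem_OM h1 h
    rwa [dl_dl, mul_inv_cancel, dl_one] at h2
  symm := fun h h' h1 => by
    rw [le_iff h⁻¹, inv_mul_cancel] at h1
    have h2 := D.symm_one h1
    rwa [le_iff h, mul_one, mul_inv_cancel_left] at h2
  big := fun h => by
    haveI : Finite (M →* ℤˣ) := finite_dual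
    have h1 : 2 < Nat.card (ann (cv M (Y : Set H))) := by
      rw [D.card_W]
      exact D.two_lt
    obtain ⟨x, hx⟩ : ∃ x : ann (cv M (Y : Set H)), x ≠ 1 := by
      by_contra hno
      push Not at hno
      haveI : Subsingleton (ann (cv M (Y : Set H))) := ⟨fun a b => by rw [hno a, hno b]⟩
      have h2 := Nat.card_of_subsingleton (1 : ann (cv M (Y : Set H)))
      omega
    obtain ⟨y, hy1, hyx⟩ : ∃ y : ann (cv M (Y : Set H)), y ≠ 1 ∧ y ≠ x := by
      by_contra hno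
      push Not at hno
      have h2 : Nat.card (ann (cv M (Y : Set H))) ≤ Nat.card Bool := by
        refine Nat.card_le_card_of_surjective (fun b : Bool => if b then x else 1) fun a => ?_
        by_cases ha : a = 1
        · exact ⟨false, by simp [ha]⟩
        · exact ⟨true, by simp [hno a ha]⟩
      rw [Nat.card_eq_fintype_card (α := Bool), Fintype.card_bool] at h2
      omega
    have h3 : ∀ a : ann (cv M (Y : Set H)), dl h (a : M →* ℤˣ) ∈ WW M Y h := fun a => by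
      rw [mem_WW, dl_dl, inv_mul_cancel, dl_one]
      exact a.2
    have h4 : ∀ a : ann (cv M (Y : Set H)), a ≠ 1 → dl h (a : M →* ℤˣ) ≠ 1 := fun a ha h5 => ha (by
      rw [← dl_map_one (M := M) h] at h5
      exact Subtype.ext (dl_inj h5))
    exact ⟨_, h3 x, _, h3 y, h4 x hx, h4 y hy1, fun h5 => hyx (Subtype.ext (dl_inj h5)).symm⟩
  orb := by
    rintro _ ⟨a, rfl⟩ _ ⟨c, rfl⟩ hv x hx b hb
    rw [dl_mem_KK] at hx
    rw [dl_mem_WW] at hb
    have h1 := hv (c * (a⁻¹ * x)) (by rw [dl_mem_KK, inv_mul_cancel_left]; exact hx) (c * (a⁻¹ * b))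
      (by rw [dl_mem_WW, inv_mul_cancel_left]; exact hb)
    rw [← le_iff c] at h1
    rwa [← le_iff a⁻¹] at h1

/-- **THEOREM FULL (functionals)** -/
theorem all {φ : M →* ℤˣ} (hφ : φ ≠ 1) : ∃ h : H, φ = dl h u := by
  haveI : Finite (M →* ℤˣ) := finite_dual
  let A : Subgroup (M →* ℤˣ) :=
    { carrier := {φ | φ = 1 ∨ φ ∈ OM H u}
      one_mem' := Or.inl rfl
      mul_mem' := by
        rintro a b (rfl | ha) (rfl | hb)
        · exact Or.inl (mul_one _)
        · rw [one_mul]; exact Or.inr hb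
        · rw [mul_one]; exact Or.inr ha
        · by_cases h : a * b = 1
          · exact Or.inl h
          · exact Or.inr (D.core.full ha hb h)
      inv_mem' := by
        rintro a ha
        have e : a⁻¹ = a := inv_eq_of_mul_eq_one_left (dual_sq a)
        rwa [e] }
  -- the common kernel is trivial
  have hB : ∀ m : M, (∀ h : H, u (h • m) = 1) → m = 1 := by
    intro m hm
    by_contra hm1
    let B : Subgroup M :=
      { carrier := {m | ∀ h : H, u (h • m) = 1}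
        one_mem' := fun h => by rw [smul_one, map_one]
        mul_mem' := fun {a b} ha hb h => by rw [smul_mul', map_mul, ha h, hb h, mul_one]
        inv_mem' := fun {a} ha h => by rw [smul_inv', map_inv, ha h, inv_one] }
    have hBT : ∀ t ∈ T, ∀ n ∈ B, t • n ∈ B := fun t _ n hn h => by
      rw [← mul_smul]
      exact hn _
    obtain ⟨b, hb, hb1, hbT⟩ := exists_fix (H := H) (N := M) D.tT D.sq B hBT
      (fun h => hm1 (by
        have h2 : m ∈ B := hm
        rw [h, mem_bot] at h2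
        exact h2))
    obtain ⟨g, hg, -⟩ := D.opp
    rcases D.cM b hbT with h | h
    · exact hb1 h
    · exact hg (by rw [← h]; exact hb g)
  have h1 : Nat.card M ≤ Nat.card (A →* ℤˣ) := by
    haveI : Finite (A →* ℤˣ) := finite_dual
    refine Nat.card_le_card_of_injective
      (fun m : M => ({ toFun := fun φ => (φ : M →* ℤˣ) m, map_one' := rfl, map_mul' := fun _ _ => rfl } : A →* ℤˣ)) ?_
    intro m m' he
    have h2 : m * m'⁻¹ = 1 := by
      refine hB _ fun h => ?_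
      have h3 : dl h⁻¹ u ∈ A := Or.inr ⟨h⁻¹, rfl⟩
      have h4 := DFunLike.congr_fun he (⟨dl h⁻¹ u, h3⟩ : A)
      change dl h⁻¹ u m = dl h⁻¹ u m' at h4
      rw [dl_apply, dl_apply, inv_inv] at h4
      rw [smul_mul', smul_inv', map_mul, map_inv, h4, mul_inv_cancel]
    exact mul_inv_eq_one.1 h2
  have hcd : ∀ (N : Type _) [Group N] [Finite N], (∀ n : N, n * n = 1) → Nat.card (N →* ℤˣ) = Nat.card N := by
    intro N _ _ hN
    have h2 := card_ann hN (⊥ : Subgroup N)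
    rw [index_bot] at h2
    rw [← h2, ← card_top]
    congr 1
    have h3 : ann (⊥ : Subgroup N) = ⊤ := by
      rw [eq_top_iff]
      intro φ _ a ha
      rw [mem_bot.1 ha, map_one]
    rw [h3]
  have h2 : Nat.card (A →* ℤˣ) = Nat.card A := hcd A fun a => Subtype.ext (dual_sq _)
  have h3 : Nat.card (M →* ℤˣ) = Nat.card M := hcd M D.sq
  have h4 : A = ⊤ := Subgroup.eq_top_of_le_card A (by rw [h3, ← h2]; exact h1)
  have h5 : φ ∈ A := h4 ▸ mem_top φ
  exact h5.resolve_left hφ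

/-- **THEOREM FULL (vectors)** -/
theorem trans [Finite H] {m : M} (hm : m ≠ 1) : ∃ h : H, h • z = m := by
  classical
  haveI : Finite (M →* ℤˣ) := finite_dual
  letI := dualAction H M
  letI := Fintype.ofFinite H
  letI := Fintype.ofFinite M
  letI := Fintype.ofFinite (M →* ℤˣ)
  have h1 := MulAction.sum_card_fixedBy_eq_card_orbits_mul_card_group H M
  have h2 := MulAction.sum_card_fixedBy_eq_card_orbits_mul_card_group H (M →* ℤˣ)
  have h3 : ∀ h : H, Fintype.card (MulAction.fixedBy M h) = Fintype.card (MulAction.fixedBy (M →* ℤˣ) h) := by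
    intro h
    rw [← Nat.card_eq_fintype_card, ← Nat.card_eq_fintype_card]
    exact (card_fixed D.sq h).symm
  rw [Finset.sum_congr rfl fun h _ => h3 h, h2] at h1
  have h4 : Fintype.card (MulAction.orbitRel.Quotient H (M →* ℤˣ)) =
      Fintype.card (MulAction.orbitRel.Quotient H M) := Nat.eq_of_mul_eq_mul_right Fintype.card_pos h1
  -- at most two orbits on the functionals
  have h5 : Fintype.card (MulAction.orbitRel.Quotient H (M →* ℤˣ)) ≤ 2 := by
    rw [← Fintype.card_bool]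
    refine Fintype.card_le_of_surjective
      (fun b : Bool => (Quotient.mk'' (if b then u else 1) : MulAction.orbitRel.Quotient H (M →* ℤˣ))) ?_
    intro q
    induction q using Quotient.inductionOn' with
    | h φ =>
      by_cases hφ : φ = 1
      · exact ⟨false, by rw [hφ]; rfl⟩
      · obtain ⟨h, rfl⟩ := D.all hφ
        refine ⟨true, ?_⟩
        refine Quotient.sound' ?_
        change u ∈ MulAction.orbit H (dl h u)
        refine ⟨h⁻¹, ?_⟩
        change dl h⁻¹ (dl h u) = u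
        rw [dl_dl, inv_mul_cancel, dl_one]
  have hz : z ≠ 1 := fun e => by
    obtain ⟨g, hg, -⟩ := D.opp
    exact hg (by rw [e, smul_one, map_one])
  by_contra hno
  have h6 : 3 ≤ Fintype.card (MulAction.orbitRel.Quotient H M) := by
    have h7 : Fintype.card (Fin 3) = 3 := rfl
    rw [← h7]
    refine Fintype.card_le_of_injective
      (fun i : Fin 3 => (Quotient.mk'' (![1, z, m] i) : MulAction.orbitRel.Quotient H M)) ?_
    have e1 : ∀ a b : M, (Quotient.mk'' a : MulAction.orbitRel.Quotient H M) = Quotient.mk'' b →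
        ∃ h : H, h • b = a := fun a b hab => Quotient.exact' hab
    have e2 : ∀ a : M, (∃ h : H, h • (1 : M) = a) → a = 1 := by
      rintro a ⟨h, rfl⟩
      exact smul_one h
    have e3 : ∀ a : M, (∃ h : H, h • a = (1 : M)) → a = 1 := by
      rintro a ⟨h, ha⟩
      have h9 := congrArg (fun x => h⁻¹ • x) ha
      change h⁻¹ • h • a = h⁻¹ • (1 : M) at h9
      rwa [inv_smul_smul, smul_one] at h9
    intro i j hij
    have h8 := e1 _ _ hij
    fin_cases i <;> fin_cases j <;> first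
      | rfl
      | exact (hz (e3 _ h8)).elim
      | exact (hm (e3 _ h8)).elim
      | exact (hz (e2 _ h8)).elim
      | exact (hm (e2 _ h8)).elim
      | exact (hno h8).elim
      | exact (hno (by obtain ⟨h, hh⟩ := h8; exact ⟨h⁻¹, (inv_smul_eq_iff.2 hh.symm)⟩)).elim
  omega

end In

end Cfsg.Agent.Omega.Full
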